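import Cfsg.Agent.H776.P4.Stmts

/-!
# S5210, (V): coordinates on `V`, the groups `U`, fixed points (helper569)
-/

set_option autoImplicit false
set_option linter.unusedSimpArgs false

namespace Cfsg.Agent.H569.P4

open Cfsg Cfsg.FusionSystem
open Cfsg.Agent.H756.PU (HypK Ess Inv Com NormAut TIAut AF)
open Cfsg.Agent.H776.P4

universe u

variable {K : Type u} [Field K] [StarRing K]

/-! ### Coordinates -/

def cA (v : PV K) : K := (v : PG K).a
def cB (v : PV K) : K := (v : PG K).b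
def cC (v : PV K) : K := (v : PG K).c

theorem vr (v : PV K) : (v : PG K).r = 0 := v.2

@[simp] theorem star_cA (v : PV K) : star (cA v) = cA v := (v : PG K).ha
@[simp] theorem star_cC (v : PV K) : star (cC v) = cC v := (v : PG K).hc

@[simp] theorem cA_mul (v w : PV K) : cA (v * w) = cA v + cA w := by
  show ((v : PG K) * w).a = _
  rw [PG.mul_a, vr]
  simp [cA]

@[simp] theorem cB_mul (v w : PV K) : cB (v * w) = cB v + cB w := by
  show ((v : PG K) * w).b = _
  rw [PG.mul_b, vr]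
  simp [cB]

@[simp] theorem cC_mul (v w : PV K) : cC (v * w) = cC v + cC w := rfl

@[simp] theorem cA_one : cA (1 : PV K) = 0 := rfl
@[simp] theorem cB_one : cB (1 : PV K) = 0 := rfl
@[simp] theorem cC_one : cC (1 : PV K) = 0 := rfl

@[simp] theorem cA_inv (v : PV K) : cA v⁻¹ = - cA v := by
  have h : cA (v * v⁻¹) = 0 := by rw [mul_inv_cancel, cA_one]
  rw [cA_mul] at h
  linear_combination h

@[simp] theorem cB_inv (v : PV K) : cB v⁻¹ = - cB v := by
  have h : cB (v * v⁻¹) = 0 := by rw [mul_inv_cancel, cB_one]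
  rw [cB_mul] at h
  linear_combination h

@[simp] theorem cC_inv (v : PV K) : cC v⁻¹ = - cC v := by
  have h : cC (v * v⁻¹) = 0 := by rw [mul_inv_cancel, cC_one]
  rw [cC_mul] at h
  linear_combination h

theorem vext {v w : PV K} (ha : cA v = cA w) (hb : cB v = cB w) (hc : cC v = cC w) : v = w := by
  apply Subtype.ext
  ext
  · rw [vr, vr]
  · exact ha
  · exact hb
  · exact hc

/-- the vector with given coordinates -/
def vec (a b c : K) (ha : star a = a) (hc : star c = c) : PV K := ⟨⟨0, a, b, c, ha, hc⟩, rfl⟩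

@[simp] theorem cA_vec (a b c : K) (ha : star a = a) (hc : star c = c) : cA (vec a b c ha hc) = a := rfl
@[simp] theorem cB_vec (a b c : K) (ha : star a = a) (hc : star c = c) : cB (vec a b c ha hc) = b := rfl
@[simp] theorem cC_vec (a b c : K) (ha : star a = a) (hc : star c = c) : cC (vec a b c ha hc) = c := rfl

def eA (a : K) (ha : star a = a) : PV K := vec a 0 0 ha (star_zero K)
def eB (b : K) : PV K := vec 0 b 0 (star_zero K) (star_zero K)
def eC (c : K) (hc : star c = c) : PV K := vec 0 0 c (star_zero K) hc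

@[simp] theorem cA_eA (a : K) (ha : star a = a) : cA (eA a ha) = a := rfl
@[simp] theorem cB_eA (a : K) (ha : star a = a) : cB (eA a ha) = 0 := rfl
@[simp] theorem cC_eA (a : K) (ha : star a = a) : cC (eA a ha) = 0 := rfl
@[simp] theorem cA_eB (b : K) : cA (eB b) = 0 := rfl
@[simp] theorem cB_eB (b : K) : cB (eB b) = b := rfl
@[simp] theorem cC_eB (b : K) : cC (eB b) = 0 := rfl
@[simp] theorem cA_eC (c : K) (hc : star c = c) : cA (eC c hc) = 0 := rfl
@[simp] theorem cB_eC (c : K) (hc : star c = c) : cB (eC c hc) = 0 := rfl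
@[simp] theorem cC_eC (c : K) (hc : star c = c) : cC (eC c hc) = c := rfl

theorem v_eq (v : PV K) : v = eA (cA v) (star_cA v) * eB (cB v) * eC (cC v) (star_cC v) :=
  vext (by simp) (by simp) (by simp)

/-! ### The unipotent group `U` -/

/-- `v ↦ u_r v u_r⁻¹` -/
structure IsU (r : K) (γ : MulAut (PV K)) : Prop where
  a : ∀ v, cA (γ v) = cA v + r * star (cB v) + star r * cB v + r * star r * cC v
  b : ∀ v, cB (γ v) = cB v + r * cC v
  c : ∀ v, cC (γ v) = cC v

theorem aext {γ γ' : MulAut (PV K)} (ha : ∀ v, cA (γ v) = cA (γ' v)) (hb : ∀ v, cB (γ v) = cB (γ' v))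
    (hc : ∀ v, cC (γ v) = cC (γ' v)) : γ = γ' :=
  MulEquiv.ext fun v => vext (ha v) (hb v) (hc v)

theorem IsU.unique {r : K} {γ γ' : MulAut (PV K)} (h : IsU r γ) (h' : IsU r γ') : γ = γ' :=
  aext (fun v => by rw [h.a, h'.a]) (fun v => by rw [h.b, h'.b]) (fun v => by rw [h.c, h'.c])

theorem conj_coord (g : PG K) (v : PV K) : (g * (v : PG K) * g⁻¹).r = 0 ∧
    (g * (v : PG K) * g⁻¹).a = cA v + g.r * star (cB v) + star g.r * cB v + g.r * star g.r * cC v ∧
    (g * (v : PG K) * g⁻¹).b = cB v + g.r * cC v ∧ (g * (v : PG K) * g⁻¹).c = cC v := by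
  have h0 := vr v
  refine ⟨?_, ?_, ?_, ?_⟩
  · simp [h0]
  · simp only [PG.mul_a, PG.mul_r, PG.mul_b, PG.mul_c, PG.inv_r, PG.inv_a, PG.inv_b, PG.inv_c, h0, star_add, star_mul', star_neg, cA, cB, cC, g.ha, g.hc, v.1.hc, star_zero]
    ring
  · simp only [PG.mul_b, PG.mul_c, PG.mul_r, PG.inv_b, PG.inv_r, PG.inv_c, h0, cB, cC]
    ring
  · simp [cC]

theorem isU_of_conj {g : PG K} {γ : MulAut (PV K)} (h : ∀ v : PV K, ((γ v : PV K) : PG K) = g * (v : PG K) * g⁻¹) :
    IsU g.r γ :=
  ⟨fun v => by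
      show ((γ v : PV K) : PG K).a = _
      rw [h]; exact (conj_coord g v).2.1,
    fun v => by
      show ((γ v : PV K) : PG K).b = _
      rw [h]; exact (conj_coord g v).2.2.1,
    fun v => by
      show ((γ v : PV K) : PG K).c = _
      rw [h]; exact (conj_coord g v).2.2.2⟩

theorem conj_of_isU {g : PG K} {γ : MulAut (PV K)} (h : IsU g.r γ) (v : PV K) :
    ((γ v : PV K) : PG K) = g * (v : PG K) * g⁻¹ := by
  have h1 := conj_coord g v
  ext
  · rw [vr, h1.1]
  · exact (h.a v).trans h1.2.1.symm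
  · exact (h.b v).trans h1.2.2.1.symm
  · exact (h.c v).trans h1.2.2.2.symm

/-- the element `u_r` -/
def uu (r : K) : PG K := ⟨r, 0, 0, 0, star_zero K, star_zero K⟩

theorem exists_isU (r : K) : ∃ γ : MulAut (PV K), IsU r γ := by
  refine ⟨{ toFun := fun v => ⟨uu r * v * (uu r)⁻¹, (conj_coord (uu r) v).1⟩
            invFun := fun v => ⟨(uu r)⁻¹ * v * (uu r)⁻¹⁻¹, (conj_coord (uu r)⁻¹ v).1⟩
            left_inv := fun v => Subtype.ext (by simp [mul_assoc])
            right_inv := fun v => Subtype.ext (by simp [mul_assoc])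
            map_mul' := fun v w => Subtype.ext (by simp [mul_assoc]) }, ?_⟩
  exact isU_of_conj (g := uu r) fun v => rfl

theorem IsU.one : IsU (0 : K) 1 := ⟨fun v => by simp, fun v => by simp, fun v => by simp⟩

theorem IsU.mul {r s : K} {γ γ' : MulAut (PV K)} (h : IsU r γ) (h' : IsU s γ') : IsU (r + s) (γ * γ') where
  a v := by
    rw [MulAut.mul_apply, h.a, h'.a, h'.b, h'.c]
    simp only [star_add, star_mul', star_cC]
    ring
  b v := by rw [MulAut.mul_apply, h.b, h'.b, h'.c]; ring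
  c v := by rw [MulAut.mul_apply, h.c, h'.c]

theorem IsU.inv {r : K} {γ : MulAut (PV K)} (h : IsU r γ) : IsU (-r) γ⁻¹ := by
  obtain ⟨γ', h'⟩ := exists_isU (-r)
  have h1 := h.mul h'
  rw [add_neg_cancel] at h1
  have h2 := h1.unique IsU.one
  rwa [eq_inv_of_mul_eq_one_right h2] at h'

theorem mem_U_iff {γ : MulAut (PV K)} : γ ∈ autInducedBy (⊤ : Subgroup (PG K)) (PV K) ↔ ∃ r, IsU r γ := by
  constructor
  · intro h
    induction h using Subgroup.closure_induction with
    | mem x hx =>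
      obtain ⟨g, -, hg⟩ := hx
      exact ⟨_, isU_of_conj hg⟩
    | one => exact ⟨0, IsU.one⟩
    | mul x y _ _ hx hy =>
      obtain ⟨r, hr⟩ := hx
      obtain ⟨s, hs⟩ := hy
      exact ⟨_, hr.mul hs⟩
    | inv x _ hx =>
      obtain ⟨r, hr⟩ := hx
      exact ⟨_, hr.inv⟩
  · rintro ⟨r, h⟩
    exact Subgroup.subset_closure ⟨uu r, Subgroup.mem_top _, fun v => conj_of_isU (g := uu r) h v⟩

/-! ### Fixed points of a group of automorphisms -/

/-- fixed vectors -/
def Fx (A : Subgroup (MulAut (PV K))) (v : PV K) : Prop := ∀ y ∈ A, y v = v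

/-- vectors fixed modulo the fixed vectors -/
def Fy (A : Subgroup (MulAut (PV K))) (v : PV K) : Prop := ∀ y ∈ A, Fx A (y v * v⁻¹)

variable {A B : Subgroup (MulAut (PV K))}

theorem Fx.one : Fx A 1 := fun y _ => map_one y

theorem Fx.mul {v w : PV K} (hv : Fx A v) (hw : Fx A w) : Fx A (v * w) := fun y hy => by
  rw [map_mul, hv y hy, hw y hy]

theorem Fx.inv {v : PV K} (hv : Fx A v) : Fx A v⁻¹ := fun y hy => by
  rw [map_inv, hv y hy]

theorem vcomm (v w : PV K) : v * w = w * v := vext (by simp [add_comm]) (by simp [add_comm]) (by simp [add_comm])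

theorem Fx.fy {v : PV K} (hv : Fx A v) : Fy A v := fun y hy => by
  rw [hv y hy, mul_inv_cancel]
  exact Fx.one

theorem Fy.mul {v w : PV K} (hv : Fy A v) (hw : Fy A w) : Fy A (v * w) := fun y hy => by
  have h1 : y (v * w) * (v * w)⁻¹ = y v * v⁻¹ * (y w * w⁻¹) := by
    rw [map_mul]
    apply vext <;> simp <;> ring
  rw [h1]
  exact (hv y hy).mul (hw y hy)

theorem Fy.inv {v : PV K} (hv : Fy A v) : Fy A v⁻¹ := fun y hy => by
  have h1 : y v⁻¹ * v⁻¹⁻¹ = (y v * v⁻¹)⁻¹ := by
    rw [map_inv]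
    apply vext <;> simp <;> ring
  rw [h1]
  exact (hv y hy).inv

theorem fx_map {n : MulAut (PV K)} (h : ∀ z, z ∈ A ↔ n * z * n⁻¹ ∈ B) (v : PV K) : Fx A v ↔ Fx B (n v) := by
  constructor
  · intro hv y hy
    have h1 : n⁻¹ * y * n ∈ A := by
      rw [h]
      have : n * (n⁻¹ * y * n) * n⁻¹ = y := by group
      rwa [this]
    have h2 := hv _ h1
    have h3 := congrArg n h2
    simpa using h3
  · intro hv y hy
    have h2 := hv _ ((h y).1 hy)
    have h3 : n (y v) = n v := by simpa using h2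
    exact n.injective h3

theorem fy_map {n : MulAut (PV K)} (h : ∀ z, z ∈ A ↔ n * z * n⁻¹ ∈ B) (v : PV K) : Fy A v ↔ Fy B (n v) := by
  constructor
  · intro hv y hy
    have h1 : n⁻¹ * y * n ∈ A := by
      rw [h]
      have : n * (n⁻¹ * y * n) * n⁻¹ = y := by group
      rwa [this]
    have h2 := (fx_map h _).1 (hv _ h1)
    have h3 : n ((n⁻¹ * y * n) v * v⁻¹) = y (n v) * (n v)⁻¹ := by
      simp
    rwa [h3] at h2
  · intro hv y hy
    have h2 := hv _ ((h y).1 hy)
    rw [fx_map h]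
    have h3 : n (y v * v⁻¹) = (n * y * n⁻¹) (n v) * (n v)⁻¹ := by
      simp
    rwa [h3]

end Cfsg.Agent.H569.P4
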