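import Cfsg.Agent.H569.P4.Basic

/-!
# S5210, (V): fixed points of `U`; the opposite group in coordinates (helper569)
-/

set_option autoImplicit false
set_option linter.unusedSimpArgs false

namespace Cfsg.Agent.H569.P4

open Cfsg Cfsg.FusionSystem
open Cfsg.Agent.H756.PU (HypK Ess Inv Com NormAut TIAut AF)
open Cfsg.Agent.H776.P4

universe u

variable {K : Type u} [Field K] [StarRing K] {p n : ℕ}

/-! ### The field -/

theorem one_lt (h : HypK K p n) : 1 < p ^ n :=
  Nat.one_lt_pow (by have := h.hn; omega) h.pp.one_lt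

theorem exists_pow_ne (h : HypK K p n) : ∃ θ : K, θ ≠ 0 ∧ θ ^ (p ^ n - 1) ≠ 1 := by
  have := h.fin
  have := Fintype.ofFinite K
  by_contra hcon
  push Not at hcon
  have hq := one_lt h
  have h1 : ∀ x : Kˣ, x ^ (p ^ n - 1) = 1 := fun x => Units.ext (by
    rw [Units.val_pow_eq_pow_val, hcon x x.ne_zero, Units.val_one])
  obtain ⟨g, hg⟩ := IsCyclic.exists_generator (α := Kˣ)
  have h2 : orderOf g = Nat.card Kˣ := orderOf_eq_card_of_forall_mem_zpowers hg
  have h3 := orderOf_dvd_of_pow_eq_one (h1 g)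
  rw [h2, Nat.card_units, h.card] at h3
  have h4 := Nat.le_of_dvd (by omega) h3
  have h5 : p ^ n < (p ^ n) ^ 2 := by nlinarith
  omega

theorem exists_star_ne (h : HypK K p n) : ∃ θ : K, star θ ≠ θ := by
  obtain ⟨θ, h0, h1⟩ := exists_pow_ne h
  refine ⟨θ, fun h2 => h1 ?_⟩
  rw [h.star_eq] at h2
  have hq := one_lt h
  have h3 : θ * θ ^ (p ^ n - 1) = θ * 1 := by
    rw [← pow_succ', Nat.sub_add_cancel hq.le, h2, mul_one]
  exact mul_left_cancel₀ h0 h3

theorem exists_trace_ne (h : HypK K p n) : ∃ θ : K, θ + star θ ≠ 0 := by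
  by_contra hcon
  push Not at hcon
  obtain ⟨θ, hθ⟩ := exists_star_ne h
  have h1 := hcon 1
  rw [star_one] at h1
  have h2 := hcon θ
  apply hθ
  have h3 : θ + θ = 0 := by
    have : θ + θ = θ * (1 + 1) := by ring
    rw [this, h1, mul_zero]
  linear_combination h2 - h3

theorem eq_zero_of_trace (h : HypK K p n) {b : K} (hb : ∀ r : K, r * star b + star r * b = 0) : b = 0 := by
  by_contra hne
  obtain ⟨θ, hθ⟩ := exists_trace_ne h
  have hs : star b ≠ 0 := by rwa [Ne, star_eq_zero]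
  apply hθ
  have h1 := hb (θ * (star b)⁻¹)
  rw [star_mul', star_inv₀, star_star, inv_mul_cancel_right₀ hs, inv_mul_cancel_right₀ hne] at h1
  exact h1

/-! ### Fixed points of `U` -/

theorem fx_U (h : HypK K p n) {v : PV K} : Fx (autInducedBy (⊤ : Subgroup (PG K)) (PV K)) v ↔ cB v = 0 ∧ cC v = 0 := by
  constructor
  · intro hv
    have h1 : ∀ r : K, r * star (cB v) + star r * cB v + r * star r * cC v = 0 ∧ r * cC v = 0 := by
      intro r
      obtain ⟨γ, hγ⟩ := exists_isU r
      have h2 := hv γ (mem_U_iff.2 ⟨r, hγ⟩)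
      have h3 := hγ.a v
      have h4 := hγ.b v
      rw [h2] at h3 h4
      constructor
      · linear_combination -h3
      · linear_combination -h4
    have h2 : cC v = 0 := by simpa using (h1 1).2
    refine ⟨eq_zero_of_trace h fun r => ?_, h2⟩
    have h3 := (h1 r).1
    rw [h2, mul_zero, add_zero] at h3
    exact h3
  · rintro ⟨hb, hc⟩ γ hγ
    obtain ⟨r, hr⟩ := mem_U_iff.1 hγ
    apply vext
    · rw [hr.a, hb, hc]; simp
    · rw [hr.b, hc]; simp
    · rw [hr.c]

theorem fy_U (h : HypK K p n) {v : PV K} : Fy (autInducedBy (⊤ : Subgroup (PG K)) (PV K)) v ↔ cC v = 0 := by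
  constructor
  · intro hv
    obtain ⟨γ, hγ⟩ := exists_isU (1 : K)
    have h2 := ((fx_U h).1 (hv γ (mem_U_iff.2 ⟨1, hγ⟩))).1
    rw [cB_mul, cB_inv, hγ.b] at h2
    linear_combination h2
  · intro hc γ hγ
    obtain ⟨r, hr⟩ := mem_U_iff.1 hγ
    rw [fx_U h]
    constructor
    · rw [cB_mul, cB_inv, hr.b, hc]; ring
    · rw [cC_mul, cC_inv, hr.c]; ring

/-- the commutator of `V` with `U` -/
theorem fy_comm_U (h : HypK K p n) {x : MulAut (PV K)} (hx : x ∈ autInducedBy (⊤ : Subgroup (PG K)) (PV K)) (v : PV K) :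
    Fy (autInducedBy (⊤ : Subgroup (PG K)) (PV K)) (x v * v⁻¹) := by
  obtain ⟨r, hr⟩ := mem_U_iff.1 hx
  rw [fy_U h, cC_mul, cC_inv, hr.c]
  ring

/-! ### The opposite group -/

/-- the matrix `[1, 0; star s, 1]` -/
structure IsL (s : K) (γ : MulAut (PV K)) : Prop where
  a : ∀ v, cA (γ v) = cA v
  b : ∀ v, cB (γ v) = cB v + s * cA v
  c : ∀ v, cC (γ v) = cC v + (star s * cB v + s * star (cB v)) + s * star s * cA v

/-- the matrix `[0, r; -1/r, 0]` -/
structure IsN (r : K) (γ : MulAut (PV K)) : Prop where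
  a : ∀ v, cA (γ v) = r * star r * cC v
  b : ∀ v, cB (γ v) = - (r * (star r)⁻¹ * star (cB v))
  c : ∀ v, cC (γ v) = (r * star r)⁻¹ * cA v

theorem isN_of {r : K} (h0 : r ≠ 0) {x y : MulAut (PV K)} (hx : IsU r x) (hy : IsL (-(star r)⁻¹) y) : IsN r (x * y * x) := by
  have h1 : star r ≠ 0 := by rwa [Ne, star_eq_zero]
  refine ⟨fun v => ?_, fun v => ?_, fun v => ?_⟩
  · rw [MulAut.mul_apply, MulAut.mul_apply, hx.a, hy.a, hy.b, hy.c, hx.a, hx.b, hx.c]
    simp only [star_add, star_mul', star_neg, star_inv₀, star_star, star_cC, star_cA]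
    field_simp
    ring
  · rw [MulAut.mul_apply, MulAut.mul_apply, hx.b, hy.b, hy.c, hx.a, hx.b, hx.c]
    simp only [star_add, star_mul', star_neg, star_inv₀, star_star, star_cC, star_cA]
    field_simp
    ring
  · rw [MulAut.mul_apply, MulAut.mul_apply, hx.c, hy.c, hx.a, hx.b, hx.c]
    simp only [star_add, star_mul', star_neg, star_inv₀, star_star, star_cC, star_cA]
    field_simp
    ring

/-- **the opposite element is determined by the swap** -/
theorem isL_of_swap (h : HypK K p n) {Um : Subgroup (MulAut (PV K))}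
    (hZ : ∀ (c : K) (hc : star c = c), Fx Um (eC c hc)) (hW : ∀ b : K, Fy Um (eB b))
    (hFx : ∀ v, Fx Um v → cA v = 0 ∧ cB v = 0) (hFy : ∀ v, Fy Um v → cA v = 0)
    {x y : MulAut (PV K)} {r : K} (h0 : r ≠ 0) (hx : IsU r x) (hy : y ∈ Um)
    (h1 : ∀ z, z ∈ Um ↔ (x * y * x) * z * (x * y * x)⁻¹ ∈ autInducedBy ⊤ (PV K))
    (h2 : ∀ z, z ∈ autInducedBy ⊤ (PV K) ↔ (x * y * x) * z * (x * y * x)⁻¹ ∈ Um) : IsL (-(star r)⁻¹) y := by
  have hs0 : star r ≠ 0 := by rwa [Ne, star_eq_zero]
  -- `cA` is fixed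
  have hA : ∀ v, cA (y v) = cA v := by
    intro v
    have h3 : Fy Um (y v * v⁻¹) := by
      have h4 : (x * y * x)⁻¹ * y * (x * y * x) ∈ autInducedBy ⊤ (PV K) := by
        rw [h2]
        have : (x * y * x) * ((x * y * x)⁻¹ * y * (x * y * x)) * (x * y * x)⁻¹ = y := by group
        rwa [this]
      have h5 := (fy_map h2 _).1 (fy_comm_U h h4 ((x * y * x)⁻¹ v))
      have h6 : (x * y * x) (((x * y * x)⁻¹ * y * (x * y * x)) ((x * y * x)⁻¹ v) * ((x * y * x)⁻¹ v)⁻¹) = y v * v⁻¹ := by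
        rw [map_mul, map_inv, MulAut.apply_inv_self]
        congr 1
        have h7 : ∀ g : MulAut (PV K), g ((g⁻¹ * y * g) (g⁻¹ v)) = y v := by
          intro g
          simp only [MulAut.mul_apply, MulAut.apply_inv_self]
        exact h7 _
      rwa [h6] at h5
    have h4 := hFy _ h3
    rw [cA_mul, cA_inv] at h4
    linear_combination h4
  have hC0 : ∀ (c : K) (hc : star c = c), y (eC c hc) = eC c hc := fun c hc => hZ c hc y hy
  have hB0 : ∀ b : K, cB (y (eB b)) = b := by
    intro b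
    have h3 := (hFx _ (hW b y hy)).2
    rw [cB_mul, cB_inv, cB_eB] at h3
    linear_combination h3
  -- general form
  have hgB : ∀ v, cB (y v) = cB v + cB (y (eA (cA v) (star_cA v))) := by
    intro v
    conv_lhs => rw [v_eq v]
    rw [map_mul, map_mul, cB_mul, cB_mul, hB0, hC0, cB_eC]
    ring
  have hgC : ∀ v, cC (y v) = cC v + cC (y (eA (cA v) (star_cA v))) + cC (y (eB (cB v))) := by
    intro v
    conv_lhs => rw [v_eq v]
    rw [map_mul, map_mul, cC_mul, cC_mul, hC0, cC_eC]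
    ring
  -- the swap on `eC c`
  have hSC : ∀ (c : K) (hc : star c = c), cB ((x * y * x) (eC c hc)) = 0 ∧ cC ((x * y * x) (eC c hc)) = 0 := fun c hc =>
    (fx_U h).1 ((fx_map h1 _).1 (hZ c hc))
  have hSA : ∀ (a : K) (ha : star a = a), cB ((x * y * x) (eA a ha)) = 0 := fun a ha =>
    (hFx _ ((fx_map h2 _).1 ((fx_U h).2 ⟨rfl, rfl⟩))).2
  have hSB : ∀ b : K, cC ((x * y * x) (eB b)) = 0 := fun b => (fy_U h).1 ((fy_map h1 _).1 (hW b))
  -- `x` on the basis vectors
  have hxA : ∀ (a : K) (ha : star a = a), x (eA a ha) = eA a ha := fun a ha =>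
    vext (by rw [hx.a]; simp) (by rw [hx.b]; simp) (by rw [hx.c])
  -- `E` and `F`
  have hEF : ∀ (a : K) (ha : star a = a), cB (y (eA a ha)) + r * cC (y (eA a ha)) = 0 := by
    intro a ha
    have h3 := hSA a ha
    rw [MulAut.mul_apply, MulAut.mul_apply, hxA, hx.b] at h3
    exact h3
  have hN : r * star r ≠ 0 := mul_ne_zero h0 hs0
  have hNs : star (r * star r) = r * star r := by rw [star_mul', star_star, mul_comm]
  have hE : ∀ (a : K) (ha : star a = a), cB (y (eA a ha)) = - (star r)⁻¹ * a := by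
    intro a ha
    have hc : star ((r * star r)⁻¹ * a) = (r * star r)⁻¹ * a := by rw [star_mul', star_inv₀, hNs, ha]
    obtain ⟨h3, h4⟩ := hSC _ hc
    rw [MulAut.mul_apply, MulAut.mul_apply, hx.b] at h3
    rw [MulAut.mul_apply, MulAut.mul_apply, hx.c] at h4
    rw [h4, mul_zero, add_zero, hgB] at h3
    have h5 : cA (x (eC _ hc)) = a := by
      rw [hx.a]
      simp only [cA_eC, cB_eC, cC_eC, star_zero, mul_zero, add_zero, zero_add]
      rw [← mul_assoc, mul_inv_cancel₀ hN, one_mul]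
    have h6 : eA (cA (x (eC _ hc))) (star_cA _) = eA a ha := vext h5 rfl rfl
    rw [h6, hx.b] at h3
    simp only [cB_eC, cC_eC, zero_add] at h3
    have h7 : r * ((r * star r)⁻¹ * a) = (star r)⁻¹ * a := by
      field_simp
    rw [h7] at h3
    linear_combination h3
  have hF : ∀ (a : K) (ha : star a = a), cC (y (eA a ha)) = (r * star r)⁻¹ * a := by
    intro a ha
    have h3 := hEF a ha
    rw [hE a ha] at h3
    field_simp at h3 ⊢
    linear_combination h3
  have hG : ∀ b : K, cC (y (eB b)) = - ((r * star r)⁻¹ * (r * star b + star r * b)) := by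
    intro b
    have h3 := hSB b
    rw [MulAut.mul_apply, MulAut.mul_apply, hx.c, hgC, hF] at h3
    have h4 : x (eB b) = eA (r * star b + star r * b) (by rw [star_add, star_mul', star_mul', star_star, star_star]; ring) *
        eB b := by
      apply vext
      · rw [hx.a]; simp
      · rw [hx.b]; simp
      · rw [hx.c]; simp
    rw [h4] at h3
    simp only [cA_mul, cA_eA, cA_eB, cB_mul, cB_eA, cB_eB, cC_mul, cC_eA, cC_eB, add_zero, zero_add] at h3
    linear_combination h3
  refine ⟨hA, fun v => ?_, fun v => ?_⟩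
  · rw [hgB, hE]
  · rw [hgC, hF, hG]
    rw [star_neg, star_inv₀, star_star]
    field_simp
    ring

end Cfsg.Agent.H569.P4
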